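import Cfsg.Agent.Lib.Cert.Heo.O0

set_option autoImplicit false
set_option maxRecDepth 100000

namespace Cfsg.Agent.Ct.Heo

open Cfsg.Agent.PC

theorem v0x27500 : Nat.beq (rng u0 (nat_lit 27500) (nat_lit 2500)) (nat_lit 0) = true := by decide +kernel
theorem v0x30000 : Nat.beq (rng u0 (nat_lit 30000) (nat_lit 2500)) (nat_lit 0) = true := by decide +kernel
theorem v0x32500 : Nat.beq (rng u0 (nat_lit 32500) (nat_lit 2500)) (nat_lit 0) = true := by decide +kernel
theorem v0x35000 : Nat.beq (rng u0 (nat_lit 35000) (nat_lit 2500)) (nat_lit 0) = true := by decide +kernel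
theorem v0x37500 : Nat.beq (rng u0 (nat_lit 37500) (nat_lit 2500)) (nat_lit 0) = true := by decide +kernel
theorem v0x40000 : Nat.beq (rng u0 (nat_lit 40000) (nat_lit 2500)) (nat_lit 0) = true := by decide +kernel
theorem v0x42500 : Nat.beq (rng u0 (nat_lit 42500) (nat_lit 2500)) (nat_lit 0) = true := by decide +kernel
theorem v0x45000 : Nat.beq (rng u0 (nat_lit 45000) (nat_lit 2500)) (nat_lit 0) = true := by decide +kernel
theorem v0x47500 : Nat.beq (rng u0 (nat_lit 47500) (nat_lit 2500)) (nat_lit 0) = true := by decide +kernel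
theorem v0x50000 : Nat.beq (rng u0 (nat_lit 50000) (nat_lit 2500)) (nat_lit 0) = true := by decide +kernel

end Cfsg.Agent.Ct.Heo
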