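import Cfsg.Agent.Lib.Cert.Heo.O0

set_option autoImplicit false
set_option maxRecDepth 100000

namespace Cfsg.Agent.Ct.Heo

open Cfsg.Agent.PC

theorem v0x77500 : Nat.beq (rng u0 (nat_lit 77500) (nat_lit 2500)) (nat_lit 0) = true := by decide +kernel
theorem v0x80000 : Nat.beq (rng u0 (nat_lit 80000) (nat_lit 2500)) (nat_lit 0) = true := by decide +kernel
theorem v0x82500 : Nat.beq (rng u0 (nat_lit 82500) (nat_lit 2500)) (nat_lit 0) = true := by decide +kernel
theorem v0x85000 : Nat.beq (rng u0 (nat_lit 85000) (nat_lit 2500)) (nat_lit 0) = true := by decide +kernel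
theorem v0x87500 : Nat.beq (rng u0 (nat_lit 87500) (nat_lit 2500)) (nat_lit 0) = true := by decide +kernel
theorem v0x90000 : Nat.beq (rng u0 (nat_lit 90000) (nat_lit 2500)) (nat_lit 0) = true := by decide +kernel
theorem v0x92500 : Nat.beq (rng u0 (nat_lit 92500) (nat_lit 2500)) (nat_lit 0) = true := by decide +kernel
theorem v0x95000 : Nat.beq (rng u0 (nat_lit 95000) (nat_lit 2500)) (nat_lit 0) = true := by decide +kernel
theorem v0x97500 : Nat.beq (rng u0 (nat_lit 97500) (nat_lit 2500)) (nat_lit 0) = true := by decide +kernel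
theorem v0x100000 : Nat.beq (rng u0 (nat_lit 100000) (nat_lit 2500)) (nat_lit 0) = true := by decide +kernel

end Cfsg.Agent.Ct.Heo
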