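import Cfsg.Agent.Lib.Cert.Heo.O0

set_option autoImplicit false
set_option maxRecDepth 100000

namespace Cfsg.Agent.Ct.Heo

open Cfsg.Agent.PC

theorem v0x102500 : Nat.beq (rng u0 (nat_lit 102500) (nat_lit 2500)) (nat_lit 0) = true := by decide +kernel
theorem v0x105000 : Nat.beq (rng u0 (nat_lit 105000) (nat_lit 2500)) (nat_lit 0) = true := by decide +kernel
theorem v0x107500 : Nat.beq (rng u0 (nat_lit 107500) (nat_lit 2500)) (nat_lit 0) = true := by decide +kernel
theorem v0x110000 : Nat.beq (rng u0 (nat_lit 110000) (nat_lit 2500)) (nat_lit 0) = true := by decide +kernel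
theorem v0x112500 : Nat.beq (rng u0 (nat_lit 112500) (nat_lit 2500)) (nat_lit 0) = true := by decide +kernel
theorem v0x115000 : Nat.beq (rng u0 (nat_lit 115000) (nat_lit 2500)) (nat_lit 0) = true := by decide +kernel
theorem v0x117500 : Nat.beq (rng u0 (nat_lit 117500) (nat_lit 2500)) (nat_lit 0) = true := by decide +kernel
theorem v0x120000 : Nat.beq (rng u0 (nat_lit 120000) (nat_lit 2500)) (nat_lit 0) = true := by decide +kernel
theorem v0x122500 : Nat.beq (rng u0 (nat_lit 122500) (nat_lit 2500)) (nat_lit 0) = true := by decide +kernel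
theorem v0x125000 : Nat.beq (rng u0 (nat_lit 125000) (nat_lit 2500)) (nat_lit 0) = true := by decide +kernel

end Cfsg.Agent.Ct.Heo
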