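import Cfsg.Agent.Lib.Cert.Heo.O0

set_option autoImplicit false
set_option maxRecDepth 100000

namespace Cfsg.Agent.Ct.Heo

open Cfsg.Agent.PC

theorem v0x177500 : Nat.beq (rng u0 (nat_lit 177500) (nat_lit 2500)) (nat_lit 0) = true := by decide +kernel
theorem v0x180000 : Nat.beq (rng u0 (nat_lit 180000) (nat_lit 2500)) (nat_lit 0) = true := by decide +kernel
theorem v0x182500 : Nat.beq (rng u0 (nat_lit 182500) (nat_lit 2500)) (nat_lit 0) = true := by decide +kernel
theorem v0x185000 : Nat.beq (rng u0 (nat_lit 185000) (nat_lit 2425)) (nat_lit 0) = true := by decide +kernel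

end Cfsg.Agent.Ct.Heo
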