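import Cfsg.Agent.Lib.Cert.Heo.O0

set_option autoImplicit false
set_option maxRecDepth 100000

namespace Cfsg.Agent.Ct.Heo

open Cfsg.Agent.PC

theorem d120000 : Nat.beq (rng f3 (nat_lit 120000) (nat_lit 2000)) (nat_lit 0) = true := by decide +kernel
theorem d122000 : Nat.beq (rng f3 (nat_lit 122000) (nat_lit 2000)) (nat_lit 0) = true := by decide +kernel
theorem d124000 : Nat.beq (rng f3 (nat_lit 124000) (nat_lit 2000)) (nat_lit 0) = true := by decide +kernel
theorem d126000 : Nat.beq (rng f3 (nat_lit 126000) (nat_lit 2000)) (nat_lit 0) = true := by decide +kernel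
theorem d128000 : Nat.beq (rng f3 (nat_lit 128000) (nat_lit 2000)) (nat_lit 0) = true := by decide +kernel
theorem d130000 : Nat.beq (rng f3 (nat_lit 130000) (nat_lit 2000)) (nat_lit 0) = true := by decide +kernel
theorem d132000 : Nat.beq (rng f3 (nat_lit 132000) (nat_lit 2000)) (nat_lit 0) = true := by decide +kernel
theorem d134000 : Nat.beq (rng f3 (nat_lit 134000) (nat_lit 2000)) (nat_lit 0) = true := by decide +kernel
theorem d136000 : Nat.beq (rng f3 (nat_lit 136000) (nat_lit 2000)) (nat_lit 0) = true := by decide +kernel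
theorem d138000 : Nat.beq (rng f3 (nat_lit 138000) (nat_lit 2000)) (nat_lit 0) = true := by decide +kernel

end Cfsg.Agent.Ct.Heo
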