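import Cfsg.Agent.Lib.Cert.Heo.O0

set_option autoImplicit false
set_option maxRecDepth 100000

namespace Cfsg.Agent.Ct.Heo

open Cfsg.Agent.PC

theorem d140000 : Nat.beq (rng f3 (nat_lit 140000) (nat_lit 2000)) (nat_lit 0) = true := by decide +kernel
theorem d142000 : Nat.beq (rng f3 (nat_lit 142000) (nat_lit 2000)) (nat_lit 0) = true := by decide +kernel
theorem d144000 : Nat.beq (rng f3 (nat_lit 144000) (nat_lit 2000)) (nat_lit 0) = true := by decide +kernel
theorem d146000 : Nat.beq (rng f3 (nat_lit 146000) (nat_lit 2000)) (nat_lit 0) = true := by decide +kernel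
theorem d148000 : Nat.beq (rng f3 (nat_lit 148000) (nat_lit 2000)) (nat_lit 0) = true := by decide +kernel
theorem d150000 : Nat.beq (rng f3 (nat_lit 150000) (nat_lit 2000)) (nat_lit 0) = true := by decide +kernel
theorem d152000 : Nat.beq (rng f3 (nat_lit 152000) (nat_lit 2000)) (nat_lit 0) = true := by decide +kernel
theorem d154000 : Nat.beq (rng f3 (nat_lit 154000) (nat_lit 2000)) (nat_lit 0) = true := by decide +kernel
theorem d156000 : Nat.beq (rng f3 (nat_lit 156000) (nat_lit 2000)) (nat_lit 0) = true := by decide +kernel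
theorem d158000 : Nat.beq (rng f3 (nat_lit 158000) (nat_lit 2000)) (nat_lit 0) = true := by decide +kernel

end Cfsg.Agent.Ct.Heo
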