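import Cfsg.Agent.Lib.Cert.Heo.O0

set_option autoImplicit false
set_option maxRecDepth 100000

namespace Cfsg.Agent.Ct.Heo

open Cfsg.Agent.PC

theorem d160000 : Nat.beq (rng f3 (nat_lit 160000) (nat_lit 2000)) (nat_lit 0) = true := by decide +kernel
theorem d162000 : Nat.beq (rng f3 (nat_lit 162000) (nat_lit 2000)) (nat_lit 0) = true := by decide +kernel
theorem d164000 : Nat.beq (rng f3 (nat_lit 164000) (nat_lit 2000)) (nat_lit 0) = true := by decide +kernel
theorem d166000 : Nat.beq (rng f3 (nat_lit 166000) (nat_lit 2000)) (nat_lit 0) = true := by decide +kernel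
theorem d168000 : Nat.beq (rng f3 (nat_lit 168000) (nat_lit 2000)) (nat_lit 0) = true := by decide +kernel
theorem d170000 : Nat.beq (rng f3 (nat_lit 170000) (nat_lit 2000)) (nat_lit 0) = true := by decide +kernel
theorem d172000 : Nat.beq (rng f3 (nat_lit 172000) (nat_lit 2000)) (nat_lit 0) = true := by decide +kernel
theorem d174000 : Nat.beq (rng f3 (nat_lit 174000) (nat_lit 2000)) (nat_lit 0) = true := by decide +kernel
theorem d176000 : Nat.beq (rng f3 (nat_lit 176000) (nat_lit 2000)) (nat_lit 0) = true := by decide +kernel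
theorem d178000 : Nat.beq (rng f3 (nat_lit 178000) (nat_lit 2000)) (nat_lit 0) = true := by decide +kernel

end Cfsg.Agent.Ct.Heo
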