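import Cfsg.Agent.Lib.Cert.Heo.U0
import Cfsg.Agent.Lib.Cert.Heo.U1
import Cfsg.Agent.Lib.Cert.Heo.U2
import Cfsg.Agent.Lib.Cert.Heo.U3
import Cfsg.Agent.Lib.Cert.Heo.U4
import Cfsg.Agent.Lib.Cert.Heo.U5
import Cfsg.Agent.Lib.Cert.Heo.U6
import Cfsg.Agent.Lib.Cert.Heo.U7
import Cfsg.Agent.Lib.Cert.Heo.U8
import Cfsg.Agent.Lib.Cert.Heo.U9
import Cfsg.Agent.Lib.Cert.Heo.U10
import Cfsg.Agent.Lib.Cert.Heo.U11
import Cfsg.Agent.Lib.Cert.Heo.U12
import Cfsg.Agent.Lib.Cert.Heo.U13
import Cfsg.Agent.Lib.Cert.Heo.U14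
import Cfsg.Agent.Lib.Cert.Heo.U15
import Cfsg.Agent.Lib.Cert.Heo.U16
import Cfsg.Agent.Lib.Cert.Heo.U17
import Cfsg.Agent.Lib.Cert.Heo.U18
import Cfsg.Agent.Lib.Cert.Heo.U19
import Cfsg.Agent.Lib.Cert.Heo.U20
import Cfsg.Agent.Lib.Cert.Heo.U21
import Cfsg.Agent.Lib.Cert.Heo.U22
import Cfsg.Agent.Lib.Cert.Heo.U23
import Cfsg.Agent.Lib.Cert.Heo.U24

set_option autoImplicit false
set_option maxRecDepth 100000

namespace Cfsg.Agent.Ct.Heo

open Cfsg.Agent.PC

open Cfsg.Agent.Fi Cfsg.Agent.Ct
open Cfsg.Agent.Ct.He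
theorem h3 : ∀ i < 187424, f3 i = 0 := by
  have h := zero_lt_zero f3
  have h := zero_lt_add (a := (nat_lit 0)) (n := (nat_lit 2000)) (b := (nat_lit 2000)) h d0 rfl
  have h := zero_lt_add (a := (nat_lit 2000)) (n := (nat_lit 2000)) (b := (nat_lit 4000)) h d2000 rfl
  have h := zero_lt_add (a := (nat_lit 4000)) (n := (nat_lit 2000)) (b := (nat_lit 6000)) h d4000 rfl
  have h := zero_lt_add (a := (nat_lit 6000)) (n := (nat_lit 2000)) (b := (nat_lit 8000)) h d6000 rfl
  have h := zero_lt_add (a := (nat_lit 8000)) (n := (nat_lit 2000)) (b := (nat_lit 10000)) h d8000 rfl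
  have h := zero_lt_add (a := (nat_lit 10000)) (n := (nat_lit 2000)) (b := (nat_lit 12000)) h d10000 rfl
  have h := zero_lt_add (a := (nat_lit 12000)) (n := (nat_lit 2000)) (b := (nat_lit 14000)) h d12000 rfl
  have h := zero_lt_add (a := (nat_lit 14000)) (n := (nat_lit 2000)) (b := (nat_lit 16000)) h d14000 rfl
  have h := zero_lt_add (a := (nat_lit 16000)) (n := (nat_lit 2000)) (b := (nat_lit 18000)) h d16000 rfl
  have h := zero_lt_add (a := (nat_lit 18000)) (n := (nat_lit 2000)) (b := (nat_lit 20000)) h d18000 rfl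
  have h := zero_lt_add (a := (nat_lit 20000)) (n := (nat_lit 2000)) (b := (nat_lit 22000)) h d20000 rfl
  have h := zero_lt_add (a := (nat_lit 22000)) (n := (nat_lit 2000)) (b := (nat_lit 24000)) h d22000 rfl
  have h := zero_lt_add (a := (nat_lit 24000)) (n := (nat_lit 2000)) (b := (nat_lit 26000)) h d24000 rfl
  have h := zero_lt_add (a := (nat_lit 26000)) (n := (nat_lit 2000)) (b := (nat_lit 28000)) h d26000 rfl
  have h := zero_lt_add (a := (nat_lit 28000)) (n := (nat_lit 2000)) (b := (nat_lit 30000)) h d28000 rfl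
  have h := zero_lt_add (a := (nat_lit 30000)) (n := (nat_lit 2000)) (b := (nat_lit 32000)) h d30000 rfl
  have h := zero_lt_add (a := (nat_lit 32000)) (n := (nat_lit 2000)) (b := (nat_lit 34000)) h d32000 rfl
  have h := zero_lt_add (a := (nat_lit 34000)) (n := (nat_lit 2000)) (b := (nat_lit 36000)) h d34000 rfl
  have h := zero_lt_add (a := (nat_lit 36000)) (n := (nat_lit 2000)) (b := (nat_lit 38000)) h d36000 rfl
  have h := zero_lt_add (a := (nat_lit 38000)) (n := (nat_lit 2000)) (b := (nat_lit 40000)) h d38000 rfl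
  have h := zero_lt_add (a := (nat_lit 40000)) (n := (nat_lit 2000)) (b := (nat_lit 42000)) h d40000 rfl
  have h := zero_lt_add (a := (nat_lit 42000)) (n := (nat_lit 2000)) (b := (nat_lit 44000)) h d42000 rfl
  have h := zero_lt_add (a := (nat_lit 44000)) (n := (nat_lit 2000)) (b := (nat_lit 46000)) h d44000 rfl
  have h := zero_lt_add (a := (nat_lit 46000)) (n := (nat_lit 2000)) (b := (nat_lit 48000)) h d46000 rfl
  have h := zero_lt_add (a := (nat_lit 48000)) (n := (nat_lit 2000)) (b := (nat_lit 50000)) h d48000 rfl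
  have h := zero_lt_add (a := (nat_lit 50000)) (n := (nat_lit 2000)) (b := (nat_lit 52000)) h d50000 rfl
  have h := zero_lt_add (a := (nat_lit 52000)) (n := (nat_lit 2000)) (b := (nat_lit 54000)) h d52000 rfl
  have h := zero_lt_add (a := (nat_lit 54000)) (n := (nat_lit 2000)) (b := (nat_lit 56000)) h d54000 rfl
  have h := zero_lt_add (a := (nat_lit 56000)) (n := (nat_lit 2000)) (b := (nat_lit 58000)) h d56000 rfl
  have h := zero_lt_add (a := (nat_lit 58000)) (n := (nat_lit 2000)) (b := (nat_lit 60000)) h d58000 rfl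
  have h := zero_lt_add (a := (nat_lit 60000)) (n := (nat_lit 2000)) (b := (nat_lit 62000)) h d60000 rfl
  have h := zero_lt_add (a := (nat_lit 62000)) (n := (nat_lit 2000)) (b := (nat_lit 64000)) h d62000 rfl
  have h := zero_lt_add (a := (nat_lit 64000)) (n := (nat_lit 2000)) (b := (nat_lit 66000)) h d64000 rfl
  have h := zero_lt_add (a := (nat_lit 66000)) (n := (nat_lit 2000)) (b := (nat_lit 68000)) h d66000 rfl
  have h := zero_lt_add (a := (nat_lit 68000)) (n := (nat_lit 2000)) (b := (nat_lit 70000)) h d68000 rfl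
  have h := zero_lt_add (a := (nat_lit 70000)) (n := (nat_lit 2000)) (b := (nat_lit 72000)) h d70000 rfl
  have h := zero_lt_add (a := (nat_lit 72000)) (n := (nat_lit 2000)) (b := (nat_lit 74000)) h d72000 rfl
  have h := zero_lt_add (a := (nat_lit 74000)) (n := (nat_lit 2000)) (b := (nat_lit 76000)) h d74000 rfl
  have h := zero_lt_add (a := (nat_lit 76000)) (n := (nat_lit 2000)) (b := (nat_lit 78000)) h d76000 rfl
  have h := zero_lt_add (a := (nat_lit 78000)) (n := (nat_lit 2000)) (b := (nat_lit 80000)) h d78000 rfl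
  have h := zero_lt_add (a := (nat_lit 80000)) (n := (nat_lit 2000)) (b := (nat_lit 82000)) h d80000 rfl
  have h := zero_lt_add (a := (nat_lit 82000)) (n := (nat_lit 2000)) (b := (nat_lit 84000)) h d82000 rfl
  have h := zero_lt_add (a := (nat_lit 84000)) (n := (nat_lit 2000)) (b := (nat_lit 86000)) h d84000 rfl
  have h := zero_lt_add (a := (nat_lit 86000)) (n := (nat_lit 2000)) (b := (nat_lit 88000)) h d86000 rfl
  have h := zero_lt_add (a := (nat_lit 88000)) (n := (nat_lit 2000)) (b := (nat_lit 90000)) h d88000 rfl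
  have h := zero_lt_add (a := (nat_lit 90000)) (n := (nat_lit 2000)) (b := (nat_lit 92000)) h d90000 rfl
  have h := zero_lt_add (a := (nat_lit 92000)) (n := (nat_lit 2000)) (b := (nat_lit 94000)) h d92000 rfl
  have h := zero_lt_add (a := (nat_lit 94000)) (n := (nat_lit 2000)) (b := (nat_lit 96000)) h d94000 rfl
  have h := zero_lt_add (a := (nat_lit 96000)) (n := (nat_lit 2000)) (b := (nat_lit 98000)) h d96000 rfl
  have h := zero_lt_add (a := (nat_lit 98000)) (n := (nat_lit 2000)) (b := (nat_lit 100000)) h d98000 rfl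
  have h := zero_lt_add (a := (nat_lit 100000)) (n := (nat_lit 2000)) (b := (nat_lit 102000)) h d100000 rfl
  have h := zero_lt_add (a := (nat_lit 102000)) (n := (nat_lit 2000)) (b := (nat_lit 104000)) h d102000 rfl
  have h := zero_lt_add (a := (nat_lit 104000)) (n := (nat_lit 2000)) (b := (nat_lit 106000)) h d104000 rfl
  have h := zero_lt_add (a := (nat_lit 106000)) (n := (nat_lit 2000)) (b := (nat_lit 108000)) h d106000 rfl
  have h := zero_lt_add (a := (nat_lit 108000)) (n := (nat_lit 2000)) (b := (nat_lit 110000)) h d108000 rfl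
  have h := zero_lt_add (a := (nat_lit 110000)) (n := (nat_lit 2000)) (b := (nat_lit 112000)) h d110000 rfl
  have h := zero_lt_add (a := (nat_lit 112000)) (n := (nat_lit 2000)) (b := (nat_lit 114000)) h d112000 rfl
  have h := zero_lt_add (a := (nat_lit 114000)) (n := (nat_lit 2000)) (b := (nat_lit 116000)) h d114000 rfl
  have h := zero_lt_add (a := (nat_lit 116000)) (n := (nat_lit 2000)) (b := (nat_lit 118000)) h d116000 rfl
  have h := zero_lt_add (a := (nat_lit 118000)) (n := (nat_lit 2000)) (b := (nat_lit 120000)) h d118000 rfl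
  have h := zero_lt_add (a := (nat_lit 120000)) (n := (nat_lit 2000)) (b := (nat_lit 122000)) h d120000 rfl
  have h := zero_lt_add (a := (nat_lit 122000)) (n := (nat_lit 2000)) (b := (nat_lit 124000)) h d122000 rfl
  have h := zero_lt_add (a := (nat_lit 124000)) (n := (nat_lit 2000)) (b := (nat_lit 126000)) h d124000 rfl
  have h := zero_lt_add (a := (nat_lit 126000)) (n := (nat_lit 2000)) (b := (nat_lit 128000)) h d126000 rfl
  have h := zero_lt_add (a := (nat_lit 128000)) (n := (nat_lit 2000)) (b := (nat_lit 130000)) h d128000 rfl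
  have h := zero_lt_add (a := (nat_lit 130000)) (n := (nat_lit 2000)) (b := (nat_lit 132000)) h d130000 rfl
  have h := zero_lt_add (a := (nat_lit 132000)) (n := (nat_lit 2000)) (b := (nat_lit 134000)) h d132000 rfl
  have h := zero_lt_add (a := (nat_lit 134000)) (n := (nat_lit 2000)) (b := (nat_lit 136000)) h d134000 rfl
  have h := zero_lt_add (a := (nat_lit 136000)) (n := (nat_lit 2000)) (b := (nat_lit 138000)) h d136000 rfl
  have h := zero_lt_add (a := (nat_lit 138000)) (n := (nat_lit 2000)) (b := (nat_lit 140000)) h d138000 rfl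
  have h := zero_lt_add (a := (nat_lit 140000)) (n := (nat_lit 2000)) (b := (nat_lit 142000)) h d140000 rfl
  have h := zero_lt_add (a := (nat_lit 142000)) (n := (nat_lit 2000)) (b := (nat_lit 144000)) h d142000 rfl
  have h := zero_lt_add (a := (nat_lit 144000)) (n := (nat_lit 2000)) (b := (nat_lit 146000)) h d144000 rfl
  have h := zero_lt_add (a := (nat_lit 146000)) (n := (nat_lit 2000)) (b := (nat_lit 148000)) h d146000 rfl
  have h := zero_lt_add (a := (nat_lit 148000)) (n := (nat_lit 2000)) (b := (nat_lit 150000)) h d148000 rfl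
  have h := zero_lt_add (a := (nat_lit 150000)) (n := (nat_lit 2000)) (b := (nat_lit 152000)) h d150000 rfl
  have h := zero_lt_add (a := (nat_lit 152000)) (n := (nat_lit 2000)) (b := (nat_lit 154000)) h d152000 rfl
  have h := zero_lt_add (a := (nat_lit 154000)) (n := (nat_lit 2000)) (b := (nat_lit 156000)) h d154000 rfl
  have h := zero_lt_add (a := (nat_lit 156000)) (n := (nat_lit 2000)) (b := (nat_lit 158000)) h d156000 rfl
  have h := zero_lt_add (a := (nat_lit 158000)) (n := (nat_lit 2000)) (b := (nat_lit 160000)) h d158000 rfl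
  have h := zero_lt_add (a := (nat_lit 160000)) (n := (nat_lit 2000)) (b := (nat_lit 162000)) h d160000 rfl
  have h := zero_lt_add (a := (nat_lit 162000)) (n := (nat_lit 2000)) (b := (nat_lit 164000)) h d162000 rfl
  have h := zero_lt_add (a := (nat_lit 164000)) (n := (nat_lit 2000)) (b := (nat_lit 166000)) h d164000 rfl
  have h := zero_lt_add (a := (nat_lit 166000)) (n := (nat_lit 2000)) (b := (nat_lit 168000)) h d166000 rfl
  have h := zero_lt_add (a := (nat_lit 168000)) (n := (nat_lit 2000)) (b := (nat_lit 170000)) h d168000 rfl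
  have h := zero_lt_add (a := (nat_lit 170000)) (n := (nat_lit 2000)) (b := (nat_lit 172000)) h d170000 rfl
  have h := zero_lt_add (a := (nat_lit 172000)) (n := (nat_lit 2000)) (b := (nat_lit 174000)) h d172000 rfl
  have h := zero_lt_add (a := (nat_lit 174000)) (n := (nat_lit 2000)) (b := (nat_lit 176000)) h d174000 rfl
  have h := zero_lt_add (a := (nat_lit 176000)) (n := (nat_lit 2000)) (b := (nat_lit 178000)) h d176000 rfl
  have h := zero_lt_add (a := (nat_lit 178000)) (n := (nat_lit 2000)) (b := (nat_lit 180000)) h d178000 rfl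
  have h := zero_lt_add (a := (nat_lit 180000)) (n := (nat_lit 2000)) (b := (nat_lit 182000)) h d180000 rfl
  have h := zero_lt_add (a := (nat_lit 182000)) (n := (nat_lit 2000)) (b := (nat_lit 184000)) h d182000 rfl
  have h := zero_lt_add (a := (nat_lit 184000)) (n := (nat_lit 2000)) (b := (nat_lit 186000)) h d184000 rfl
  have h := zero_lt_add (a := (nat_lit 186000)) (n := (nat_lit 1424)) (b := (nat_lit 187424)) h d186000 rfl
  exact h
theorem cl : Cl q sg 0 V 187425 := md.cl2 cs h3 (reps_tabs (md0).reps (by decide +kernel) h4) (M' := 8) (t := Ct) (by decide +kernel)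
  (by rw [card]; decide +kernel)
theorem k1 : ∀ i < 187425, u1 i = 0 := by
  have h := zero_lt_zero u1
  have h := zero_lt_add (a := (nat_lit 0)) (n := (nat_lit 2500)) (b := (nat_lit 2500)) h v1x0 rfl
  have h := zero_lt_add (a := (nat_lit 2500)) (n := (nat_lit 2500)) (b := (nat_lit 5000)) h v1x2500 rfl
  have h := zero_lt_add (a := (nat_lit 5000)) (n := (nat_lit 2500)) (b := (nat_lit 7500)) h v1x5000 rfl
  have h := zero_lt_add (a := (nat_lit 7500)) (n := (nat_lit 2500)) (b := (nat_lit 10000)) h v1x7500 rfl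
  have h := zero_lt_add (a := (nat_lit 10000)) (n := (nat_lit 2500)) (b := (nat_lit 12500)) h v1x10000 rfl
  have h := zero_lt_add (a := (nat_lit 12500)) (n := (nat_lit 2500)) (b := (nat_lit 15000)) h v1x12500 rfl
  have h := zero_lt_add (a := (nat_lit 15000)) (n := (nat_lit 2500)) (b := (nat_lit 17500)) h v1x15000 rfl
  have h := zero_lt_add (a := (nat_lit 17500)) (n := (nat_lit 2500)) (b := (nat_lit 20000)) h v1x17500 rfl
  have h := zero_lt_add (a := (nat_lit 20000)) (n := (nat_lit 2500)) (b := (nat_lit 22500)) h v1x20000 rfl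
  have h := zero_lt_add (a := (nat_lit 22500)) (n := (nat_lit 2500)) (b := (nat_lit 25000)) h v1x22500 rfl
  have h := zero_lt_add (a := (nat_lit 25000)) (n := (nat_lit 2500)) (b := (nat_lit 27500)) h v1x25000 rfl
  have h := zero_lt_add (a := (nat_lit 27500)) (n := (nat_lit 2500)) (b := (nat_lit 30000)) h v1x27500 rfl
  have h := zero_lt_add (a := (nat_lit 30000)) (n := (nat_lit 2500)) (b := (nat_lit 32500)) h v1x30000 rfl
  have h := zero_lt_add (a := (nat_lit 32500)) (n := (nat_lit 2500)) (b := (nat_lit 35000)) h v1x32500 rfl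
  have h := zero_lt_add (a := (nat_lit 35000)) (n := (nat_lit 2500)) (b := (nat_lit 37500)) h v1x35000 rfl
  have h := zero_lt_add (a := (nat_lit 37500)) (n := (nat_lit 2500)) (b := (nat_lit 40000)) h v1x37500 rfl
  have h := zero_lt_add (a := (nat_lit 40000)) (n := (nat_lit 2500)) (b := (nat_lit 42500)) h v1x40000 rfl
  have h := zero_lt_add (a := (nat_lit 42500)) (n := (nat_lit 2500)) (b := (nat_lit 45000)) h v1x42500 rfl
  have h := zero_lt_add (a := (nat_lit 45000)) (n := (nat_lit 2500)) (b := (nat_lit 47500)) h v1x45000 rfl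
  have h := zero_lt_add (a := (nat_lit 47500)) (n := (nat_lit 2500)) (b := (nat_lit 50000)) h v1x47500 rfl
  have h := zero_lt_add (a := (nat_lit 50000)) (n := (nat_lit 2500)) (b := (nat_lit 52500)) h v1x50000 rfl
  have h := zero_lt_add (a := (nat_lit 52500)) (n := (nat_lit 2500)) (b := (nat_lit 55000)) h v1x52500 rfl
  have h := zero_lt_add (a := (nat_lit 55000)) (n := (nat_lit 2500)) (b := (nat_lit 57500)) h v1x55000 rfl
  have h := zero_lt_add (a := (nat_lit 57500)) (n := (nat_lit 2500)) (b := (nat_lit 60000)) h v1x57500 rfl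
  have h := zero_lt_add (a := (nat_lit 60000)) (n := (nat_lit 2500)) (b := (nat_lit 62500)) h v1x60000 rfl
  have h := zero_lt_add (a := (nat_lit 62500)) (n := (nat_lit 2500)) (b := (nat_lit 65000)) h v1x62500 rfl
  have h := zero_lt_add (a := (nat_lit 65000)) (n := (nat_lit 2500)) (b := (nat_lit 67500)) h v1x65000 rfl
  have h := zero_lt_add (a := (nat_lit 67500)) (n := (nat_lit 2500)) (b := (nat_lit 70000)) h v1x67500 rfl
  have h := zero_lt_add (a := (nat_lit 70000)) (n := (nat_lit 2500)) (b := (nat_lit 72500)) h v1x70000 rfl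
  have h := zero_lt_add (a := (nat_lit 72500)) (n := (nat_lit 2500)) (b := (nat_lit 75000)) h v1x72500 rfl
  have h := zero_lt_add (a := (nat_lit 75000)) (n := (nat_lit 2500)) (b := (nat_lit 77500)) h v1x75000 rfl
  have h := zero_lt_add (a := (nat_lit 77500)) (n := (nat_lit 2500)) (b := (nat_lit 80000)) h v1x77500 rfl
  have h := zero_lt_add (a := (nat_lit 80000)) (n := (nat_lit 2500)) (b := (nat_lit 82500)) h v1x80000 rfl
  have h := zero_lt_add (a := (nat_lit 82500)) (n := (nat_lit 2500)) (b := (nat_lit 85000)) h v1x82500 rfl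
  have h := zero_lt_add (a := (nat_lit 85000)) (n := (nat_lit 2500)) (b := (nat_lit 87500)) h v1x85000 rfl
  have h := zero_lt_add (a := (nat_lit 87500)) (n := (nat_lit 2500)) (b := (nat_lit 90000)) h v1x87500 rfl
  have h := zero_lt_add (a := (nat_lit 90000)) (n := (nat_lit 2500)) (b := (nat_lit 92500)) h v1x90000 rfl
  have h := zero_lt_add (a := (nat_lit 92500)) (n := (nat_lit 2500)) (b := (nat_lit 95000)) h v1x92500 rfl
  have h := zero_lt_add (a := (nat_lit 95000)) (n := (nat_lit 2500)) (b := (nat_lit 97500)) h v1x95000 rfl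
  have h := zero_lt_add (a := (nat_lit 97500)) (n := (nat_lit 2500)) (b := (nat_lit 100000)) h v1x97500 rfl
  have h := zero_lt_add (a := (nat_lit 100000)) (n := (nat_lit 2500)) (b := (nat_lit 102500)) h v1x100000 rfl
  have h := zero_lt_add (a := (nat_lit 102500)) (n := (nat_lit 2500)) (b := (nat_lit 105000)) h v1x102500 rfl
  have h := zero_lt_add (a := (nat_lit 105000)) (n := (nat_lit 2500)) (b := (nat_lit 107500)) h v1x105000 rfl
  have h := zero_lt_add (a := (nat_lit 107500)) (n := (nat_lit 2500)) (b := (nat_lit 110000)) h v1x107500 rfl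
  have h := zero_lt_add (a := (nat_lit 110000)) (n := (nat_lit 2500)) (b := (nat_lit 112500)) h v1x110000 rfl
  have h := zero_lt_add (a := (nat_lit 112500)) (n := (nat_lit 2500)) (b := (nat_lit 115000)) h v1x112500 rfl
  have h := zero_lt_add (a := (nat_lit 115000)) (n := (nat_lit 2500)) (b := (nat_lit 117500)) h v1x115000 rfl
  have h := zero_lt_add (a := (nat_lit 117500)) (n := (nat_lit 2500)) (b := (nat_lit 120000)) h v1x117500 rfl
  have h := zero_lt_add (a := (nat_lit 120000)) (n := (nat_lit 2500)) (b := (nat_lit 122500)) h v1x120000 rfl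
  have h := zero_lt_add (a := (nat_lit 122500)) (n := (nat_lit 2500)) (b := (nat_lit 125000)) h v1x122500 rfl
  have h := zero_lt_add (a := (nat_lit 125000)) (n := (nat_lit 2500)) (b := (nat_lit 127500)) h v1x125000 rfl
  have h := zero_lt_add (a := (nat_lit 127500)) (n := (nat_lit 2500)) (b := (nat_lit 130000)) h v1x127500 rfl
  have h := zero_lt_add (a := (nat_lit 130000)) (n := (nat_lit 2500)) (b := (nat_lit 132500)) h v1x130000 rfl
  have h := zero_lt_add (a := (nat_lit 132500)) (n := (nat_lit 2500)) (b := (nat_lit 135000)) h v1x132500 rfl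
  have h := zero_lt_add (a := (nat_lit 135000)) (n := (nat_lit 2500)) (b := (nat_lit 137500)) h v1x135000 rfl
  have h := zero_lt_add (a := (nat_lit 137500)) (n := (nat_lit 2500)) (b := (nat_lit 140000)) h v1x137500 rfl
  have h := zero_lt_add (a := (nat_lit 140000)) (n := (nat_lit 2500)) (b := (nat_lit 142500)) h v1x140000 rfl
  have h := zero_lt_add (a := (nat_lit 142500)) (n := (nat_lit 2500)) (b := (nat_lit 145000)) h v1x142500 rfl
  have h := zero_lt_add (a := (nat_lit 145000)) (n := (nat_lit 2500)) (b := (nat_lit 147500)) h v1x145000 rfl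
  have h := zero_lt_add (a := (nat_lit 147500)) (n := (nat_lit 2500)) (b := (nat_lit 150000)) h v1x147500 rfl
  have h := zero_lt_add (a := (nat_lit 150000)) (n := (nat_lit 2500)) (b := (nat_lit 152500)) h v1x150000 rfl
  have h := zero_lt_add (a := (nat_lit 152500)) (n := (nat_lit 2500)) (b := (nat_lit 155000)) h v1x152500 rfl
  have h := zero_lt_add (a := (nat_lit 155000)) (n := (nat_lit 2500)) (b := (nat_lit 157500)) h v1x155000 rfl
  have h := zero_lt_add (a := (nat_lit 157500)) (n := (nat_lit 2500)) (b := (nat_lit 160000)) h v1x157500 rfl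
  have h := zero_lt_add (a := (nat_lit 160000)) (n := (nat_lit 2500)) (b := (nat_lit 162500)) h v1x160000 rfl
  have h := zero_lt_add (a := (nat_lit 162500)) (n := (nat_lit 2500)) (b := (nat_lit 165000)) h v1x162500 rfl
  have h := zero_lt_add (a := (nat_lit 165000)) (n := (nat_lit 2500)) (b := (nat_lit 167500)) h v1x165000 rfl
  have h := zero_lt_add (a := (nat_lit 167500)) (n := (nat_lit 2500)) (b := (nat_lit 170000)) h v1x167500 rfl
  have h := zero_lt_add (a := (nat_lit 170000)) (n := (nat_lit 2500)) (b := (nat_lit 172500)) h v1x170000 rfl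
  have h := zero_lt_add (a := (nat_lit 172500)) (n := (nat_lit 2500)) (b := (nat_lit 175000)) h v1x172500 rfl
  have h := zero_lt_add (a := (nat_lit 175000)) (n := (nat_lit 2500)) (b := (nat_lit 177500)) h v1x175000 rfl
  have h := zero_lt_add (a := (nat_lit 177500)) (n := (nat_lit 2500)) (b := (nat_lit 180000)) h v1x177500 rfl
  have h := zero_lt_add (a := (nat_lit 180000)) (n := (nat_lit 2500)) (b := (nat_lit 182500)) h v1x180000 rfl
  have h := zero_lt_add (a := (nat_lit 182500)) (n := (nat_lit 2500)) (b := (nat_lit 185000)) h v1x182500 rfl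
  have h := zero_lt_add (a := (nat_lit 185000)) (n := (nat_lit 2425)) (b := (nat_lit 187425)) h v1x185000 rfl
  exact h
theorem o1 : CardLE (Fx q [nat_lit 14, nat_lit 0]) 8 := md.lvc cs cl au (aw := [nat_lit 10, nat_lit 13, nat_lit 11, nat_lit 11, nat_lit 13, nat_lit 13, nat_lit 13]) (y := 15) (by decide +kernel) k1 n1 o2
theorem k0 : ∀ i < 187425, u0 i = 0 := by
  have h := zero_lt_zero u0
  have h := zero_lt_add (a := (nat_lit 0)) (n := (nat_lit 2500)) (b := (nat_lit 2500)) h v0x0 rfl
  have h := zero_lt_add (a := (nat_lit 2500)) (n := (nat_lit 2500)) (b := (nat_lit 5000)) h v0x2500 rfl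
  have h := zero_lt_add (a := (nat_lit 5000)) (n := (nat_lit 2500)) (b := (nat_lit 7500)) h v0x5000 rfl
  have h := zero_lt_add (a := (nat_lit 7500)) (n := (nat_lit 2500)) (b := (nat_lit 10000)) h v0x7500 rfl
  have h := zero_lt_add (a := (nat_lit 10000)) (n := (nat_lit 2500)) (b := (nat_lit 12500)) h v0x10000 rfl
  have h := zero_lt_add (a := (nat_lit 12500)) (n := (nat_lit 2500)) (b := (nat_lit 15000)) h v0x12500 rfl
  have h := zero_lt_add (a := (nat_lit 15000)) (n := (nat_lit 2500)) (b := (nat_lit 17500)) h v0x15000 rfl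
  have h := zero_lt_add (a := (nat_lit 17500)) (n := (nat_lit 2500)) (b := (nat_lit 20000)) h v0x17500 rfl
  have h := zero_lt_add (a := (nat_lit 20000)) (n := (nat_lit 2500)) (b := (nat_lit 22500)) h v0x20000 rfl
  have h := zero_lt_add (a := (nat_lit 22500)) (n := (nat_lit 2500)) (b := (nat_lit 25000)) h v0x22500 rfl
  have h := zero_lt_add (a := (nat_lit 25000)) (n := (nat_lit 2500)) (b := (nat_lit 27500)) h v0x25000 rfl
  have h := zero_lt_add (a := (nat_lit 27500)) (n := (nat_lit 2500)) (b := (nat_lit 30000)) h v0x27500 rfl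
  have h := zero_lt_add (a := (nat_lit 30000)) (n := (nat_lit 2500)) (b := (nat_lit 32500)) h v0x30000 rfl
  have h := zero_lt_add (a := (nat_lit 32500)) (n := (nat_lit 2500)) (b := (nat_lit 35000)) h v0x32500 rfl
  have h := zero_lt_add (a := (nat_lit 35000)) (n := (nat_lit 2500)) (b := (nat_lit 37500)) h v0x35000 rfl
  have h := zero_lt_add (a := (nat_lit 37500)) (n := (nat_lit 2500)) (b := (nat_lit 40000)) h v0x37500 rfl
  have h := zero_lt_add (a := (nat_lit 40000)) (n := (nat_lit 2500)) (b := (nat_lit 42500)) h v0x40000 rfl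
  have h := zero_lt_add (a := (nat_lit 42500)) (n := (nat_lit 2500)) (b := (nat_lit 45000)) h v0x42500 rfl
  have h := zero_lt_add (a := (nat_lit 45000)) (n := (nat_lit 2500)) (b := (nat_lit 47500)) h v0x45000 rfl
  have h := zero_lt_add (a := (nat_lit 47500)) (n := (nat_lit 2500)) (b := (nat_lit 50000)) h v0x47500 rfl
  have h := zero_lt_add (a := (nat_lit 50000)) (n := (nat_lit 2500)) (b := (nat_lit 52500)) h v0x50000 rfl
  have h := zero_lt_add (a := (nat_lit 52500)) (n := (nat_lit 2500)) (b := (nat_lit 55000)) h v0x52500 rfl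
  have h := zero_lt_add (a := (nat_lit 55000)) (n := (nat_lit 2500)) (b := (nat_lit 57500)) h v0x55000 rfl
  have h := zero_lt_add (a := (nat_lit 57500)) (n := (nat_lit 2500)) (b := (nat_lit 60000)) h v0x57500 rfl
  have h := zero_lt_add (a := (nat_lit 60000)) (n := (nat_lit 2500)) (b := (nat_lit 62500)) h v0x60000 rfl
  have h := zero_lt_add (a := (nat_lit 62500)) (n := (nat_lit 2500)) (b := (nat_lit 65000)) h v0x62500 rfl
  have h := zero_lt_add (a := (nat_lit 65000)) (n := (nat_lit 2500)) (b := (nat_lit 67500)) h v0x65000 rfl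
  have h := zero_lt_add (a := (nat_lit 67500)) (n := (nat_lit 2500)) (b := (nat_lit 70000)) h v0x67500 rfl
  have h := zero_lt_add (a := (nat_lit 70000)) (n := (nat_lit 2500)) (b := (nat_lit 72500)) h v0x70000 rfl
  have h := zero_lt_add (a := (nat_lit 72500)) (n := (nat_lit 2500)) (b := (nat_lit 75000)) h v0x72500 rfl
  have h := zero_lt_add (a := (nat_lit 75000)) (n := (nat_lit 2500)) (b := (nat_lit 77500)) h v0x75000 rfl
  have h := zero_lt_add (a := (nat_lit 77500)) (n := (nat_lit 2500)) (b := (nat_lit 80000)) h v0x77500 rfl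
  have h := zero_lt_add (a := (nat_lit 80000)) (n := (nat_lit 2500)) (b := (nat_lit 82500)) h v0x80000 rfl
  have h := zero_lt_add (a := (nat_lit 82500)) (n := (nat_lit 2500)) (b := (nat_lit 85000)) h v0x82500 rfl
  have h := zero_lt_add (a := (nat_lit 85000)) (n := (nat_lit 2500)) (b := (nat_lit 87500)) h v0x85000 rfl
  have h := zero_lt_add (a := (nat_lit 87500)) (n := (nat_lit 2500)) (b := (nat_lit 90000)) h v0x87500 rfl
  have h := zero_lt_add (a := (nat_lit 90000)) (n := (nat_lit 2500)) (b := (nat_lit 92500)) h v0x90000 rfl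
  have h := zero_lt_add (a := (nat_lit 92500)) (n := (nat_lit 2500)) (b := (nat_lit 95000)) h v0x92500 rfl
  have h := zero_lt_add (a := (nat_lit 95000)) (n := (nat_lit 2500)) (b := (nat_lit 97500)) h v0x95000 rfl
  have h := zero_lt_add (a := (nat_lit 97500)) (n := (nat_lit 2500)) (b := (nat_lit 100000)) h v0x97500 rfl
  have h := zero_lt_add (a := (nat_lit 100000)) (n := (nat_lit 2500)) (b := (nat_lit 102500)) h v0x100000 rfl
  have h := zero_lt_add (a := (nat_lit 102500)) (n := (nat_lit 2500)) (b := (nat_lit 105000)) h v0x102500 rfl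
  have h := zero_lt_add (a := (nat_lit 105000)) (n := (nat_lit 2500)) (b := (nat_lit 107500)) h v0x105000 rfl
  have h := zero_lt_add (a := (nat_lit 107500)) (n := (nat_lit 2500)) (b := (nat_lit 110000)) h v0x107500 rfl
  have h := zero_lt_add (a := (nat_lit 110000)) (n := (nat_lit 2500)) (b := (nat_lit 112500)) h v0x110000 rfl
  have h := zero_lt_add (a := (nat_lit 112500)) (n := (nat_lit 2500)) (b := (nat_lit 115000)) h v0x112500 rfl
  have h := zero_lt_add (a := (nat_lit 115000)) (n := (nat_lit 2500)) (b := (nat_lit 117500)) h v0x115000 rfl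
  have h := zero_lt_add (a := (nat_lit 117500)) (n := (nat_lit 2500)) (b := (nat_lit 120000)) h v0x117500 rfl
  have h := zero_lt_add (a := (nat_lit 120000)) (n := (nat_lit 2500)) (b := (nat_lit 122500)) h v0x120000 rfl
  have h := zero_lt_add (a := (nat_lit 122500)) (n := (nat_lit 2500)) (b := (nat_lit 125000)) h v0x122500 rfl
  have h := zero_lt_add (a := (nat_lit 125000)) (n := (nat_lit 2500)) (b := (nat_lit 127500)) h v0x125000 rfl
  have h := zero_lt_add (a := (nat_lit 127500)) (n := (nat_lit 2500)) (b := (nat_lit 130000)) h v0x127500 rfl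
  have h := zero_lt_add (a := (nat_lit 130000)) (n := (nat_lit 2500)) (b := (nat_lit 132500)) h v0x130000 rfl
  have h := zero_lt_add (a := (nat_lit 132500)) (n := (nat_lit 2500)) (b := (nat_lit 135000)) h v0x132500 rfl
  have h := zero_lt_add (a := (nat_lit 135000)) (n := (nat_lit 2500)) (b := (nat_lit 137500)) h v0x135000 rfl
  have h := zero_lt_add (a := (nat_lit 137500)) (n := (nat_lit 2500)) (b := (nat_lit 140000)) h v0x137500 rfl
  have h := zero_lt_add (a := (nat_lit 140000)) (n := (nat_lit 2500)) (b := (nat_lit 142500)) h v0x140000 rfl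
  have h := zero_lt_add (a := (nat_lit 142500)) (n := (nat_lit 2500)) (b := (nat_lit 145000)) h v0x142500 rfl
  have h := zero_lt_add (a := (nat_lit 145000)) (n := (nat_lit 2500)) (b := (nat_lit 147500)) h v0x145000 rfl
  have h := zero_lt_add (a := (nat_lit 147500)) (n := (nat_lit 2500)) (b := (nat_lit 150000)) h v0x147500 rfl
  have h := zero_lt_add (a := (nat_lit 150000)) (n := (nat_lit 2500)) (b := (nat_lit 152500)) h v0x150000 rfl
  have h := zero_lt_add (a := (nat_lit 152500)) (n := (nat_lit 2500)) (b := (nat_lit 155000)) h v0x152500 rfl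
  have h := zero_lt_add (a := (nat_lit 155000)) (n := (nat_lit 2500)) (b := (nat_lit 157500)) h v0x155000 rfl
  have h := zero_lt_add (a := (nat_lit 157500)) (n := (nat_lit 2500)) (b := (nat_lit 160000)) h v0x157500 rfl
  have h := zero_lt_add (a := (nat_lit 160000)) (n := (nat_lit 2500)) (b := (nat_lit 162500)) h v0x160000 rfl
  have h := zero_lt_add (a := (nat_lit 162500)) (n := (nat_lit 2500)) (b := (nat_lit 165000)) h v0x162500 rfl
  have h := zero_lt_add (a := (nat_lit 165000)) (n := (nat_lit 2500)) (b := (nat_lit 167500)) h v0x165000 rfl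
  have h := zero_lt_add (a := (nat_lit 167500)) (n := (nat_lit 2500)) (b := (nat_lit 170000)) h v0x167500 rfl
  have h := zero_lt_add (a := (nat_lit 170000)) (n := (nat_lit 2500)) (b := (nat_lit 172500)) h v0x170000 rfl
  have h := zero_lt_add (a := (nat_lit 172500)) (n := (nat_lit 2500)) (b := (nat_lit 175000)) h v0x172500 rfl
  have h := zero_lt_add (a := (nat_lit 175000)) (n := (nat_lit 2500)) (b := (nat_lit 177500)) h v0x175000 rfl
  have h := zero_lt_add (a := (nat_lit 177500)) (n := (nat_lit 2500)) (b := (nat_lit 180000)) h v0x177500 rfl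
  have h := zero_lt_add (a := (nat_lit 180000)) (n := (nat_lit 2500)) (b := (nat_lit 182500)) h v0x180000 rfl
  have h := zero_lt_add (a := (nat_lit 182500)) (n := (nat_lit 2500)) (b := (nat_lit 185000)) h v0x182500 rfl
  have h := zero_lt_add (a := (nat_lit 185000)) (n := (nat_lit 2425)) (b := (nat_lit 187425)) h v0x185000 rfl
  exact h
theorem o0 : CardLE (Fx q [nat_lit 0]) 43008 := md.lvc cs cl au (aw := [nat_lit 13, nat_lit 10, nat_lit 10]) (y := 14) (by decide +kernel) k0 n0 o1
theorem aut : Nat.card (MulAut (Cfsg.Spor.He)) ≤ 187425 * 43008 := cl.top au o0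
def pi_t : TN := (TN.node (TN.node (TN.node (TN.leaf (nat_lit 0x17704a52343c45436b3df4645c04e05dc0545e45ee7a911e3b74573f242d41a41c44b6ed4a54624a361d1e45bf1ca7ec3c61696b646a38b3263af0994f91396a70b61d040e2926f94ca2d159e0fb6827bc1e14b20ce1fe60a55657d0531c03ba3e63f400f38527410d50f77d25c71c0372d852a0580c827d7331a27e351426a40d15578c7da1f90da6af3a92d377854978d5cc6040641b738755d7ba6ba0f30555da2667563076fd32e01a7367f81cf5840512215f67861994ff20d06657e7970a725e7fd46961318a6211d803344948675d4430225bd5f12d228174c5ab47d7e80b87701ac5304b914970d06c27f4652875153d345f1084714f81fd18e4856ab5182034933936b42381f72406cc5be4e93675165894b335234134a2f724646303f34f31f44617f6104b52ae2840793c82ad62e37b47767f07c7542043ad59167a40f3845945d10cc66805f13b3bc2d72597f95046577886196987be5283192bd62908702c6dd3486d002e15d7b36e139e3b24af5ad51e1a43d64291f41366566033cb07e4bd55366b0c36263b13d07ad11d10b52217d3bb1570143014b84d64c00f41c202335453271f2363c97467345782486bc6361983e02e137945d24a4d815061735074363519b6f035166167320f0f06b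36e32004006116600bd7ab2153813ff4525ca30c52018554f2c77ce2525ff69e6ca4302cc18234660b1102704d75af5950ba5b648d62d5c60131c879d4916c632a1802aa4a912561b0e959950a13237a4397ae69908136d5cb07201039810e69d7203c51da34e6124ee5df12f5754f63732d931222c6884b712b6a514b08557125f4170ef0ab0db51d38269a17a5e703e21e23041241919d67730d01936a47f22f0f54d57943130977141307391883b022640780773156463f0ea71e0c049f21907858260065c57f17c5a153656a01f80236e23751a3d429910a1cd6d80041412f82ea2c843a4da20606947c09e0bc0cd6051d731c6a37480dc16b5f83fd5d94402a662a55404d7297ed04443b4bf3692a52c024b4ed6a94cc7a363749a48b63407d7526d93717652e6804000)) (TN.leaf (nat_lit 0x16a41b7b23b34555622bf7cb6531cb))) (TN.leaf (nat_lit 0x50d28e42a22d5055a909a6514062fd7233626f548f43e5d83161720527153757277f35977ef3212cf5241795a736415a6a074a7b67040f859d7d25f23ab1020896ec1164fe6525ac1604c96aa6814351d63a626c7e217439b5573bd0765726dc29a2af53b0607a560928c7a20623a76394261ea3656b73c42208086ea6c967d6e405638f3ca58e2022a27dc5dd2a12751151f11fb7622ac7286d757a55160d09d2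6d2547d83685740a95e17c737665d78e3000504254c322565f31e0f64186312e721361f50979110074570f75874e5e540549c44727141507778932314a0d62880c54ce0736762a81ed29e14c4321b52101ef41d3884f234c0212fb0b24891214ab2495341342512554801eb2390c97e75c42e36f61a021d48374f70836036338e6836381127a15f30412732b714774d05c01152c6b816e4e24682225022912b27304ec1bf2620963021e24e30c11c46221b313f3fe55937f0aa7d13966182ec46b31d0a067245077159c5982d46905680eb7df73b0dd58c58b20e18329464a1b86326d53fc0d952b13e25d1054dc7b17721f50e375962c00c32b4233320e817b0f94f32c51ce2354bb35862855b6fa4380a268e1f60a853a5d060e7533a56e661a6c32f41674036c55586c86f17c30913ec1ba0180e511b2645332962fa4ea00b04830a1523455a64b666a1fc0bb65b0024bc6be1c60ed5c10d86920bf3807120205a45bc6e06712eb32079e6693614e833e1f05c73f72e524e65e02b2c16de12c6240433f51b070211379f2b631050310313a21227b45b6164421261af2dd1b13352cd48a1457440247754a102734d0292ef0c606e4a68066b10b577f0d11db54239932264c70156565826501e68073d2b535729d57c28605916876b3701bc26f4535b33e200e2283f16b93537823a35526416f323315628942230f7190866251ae2a460f1596cf18d11a1a110f0b17f61c55002971876ac51254b5170074ba6d422408c6e859311f63b0b41df1d57e161548e3057c071d43644a7853d51f81512ff06776c4aa0be5e849b27a39019015c08e4e70ac6eb55c071317780386)))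 (TN.node (TN.leaf (nat_lit 0x6140036df5ba40c4872cb3b45b946654042f4ae3781043f880510c0885de1b26e25866c16963d95ef6d115b5385461077dd3e554d1d475133809813569b7d90082474017e43241d36a26a149872101b6655fc3f972c53f27c5ae5926c01c938c6b067c3301a63dd80027745a12a6c229c4d43e735f3ea1ff1e855033a25a24c44d26831413c2df77918c6477103ee2957f439a75a10943f1b616c1620952e02083e376e78f5ed0b01434f76fc46742e7503bf1426a667b58d2291d24c50f119256024423a3cd2f02b41be0903286ad3d81a35b541e7db5f749949642c49768713100a0830c41e50df47005a1b436c6db2056450ca73a57363c79864828d01c73c3c232747479a0752637426914e66467a02ee21c06f4487e64a256e1646086ef1545554a021628a5ce5137f07835086f27e57ca44566c1ee69370c33c62340b5cf4cf44f17347b08421412e07a64307b0fd3d10801dc1fa3591bd68b2a74fd05d27912000934221b67515f72d07445e7731783a463e66e4fc24260613d4e42852904d170730926b7666b534b67e5e361c23d52e1c75db66648876362f17e5d455e1bb1a93ce1f36866490654315705485677d603569f5cd36f4e54213185d33345b45ea7e00681816025887327e95413770e211748220a1d11ad70003407f3042f623c4243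295294091444e15e904c5266da1110a506d35633d02f0e025326714d2b37181954204045475e04a46f40d53895a57773b543312971a21875557953556334708d6c44377096857617847577417aa70a5e24a751c03a0922505f560c2453f61d956916d3be3dc4ad2d079027e7c623e54504f45157664031546e39c7b72e82830700066797c10fc1937ac33340847833959b3e85c55fe3315442f517635a2e445838d22b0f26744957c472e66f18451b59a5b22ca2be5113b825603b5a04fb7d553119676f6017ee43d3c01e36677371617fb7352ab2de4d01231c13d72410a301d0e64791221dd2610ae2a96e903839449e37c48c56f4b456c51f47a5832071751f22316bf4762d62176947936a81407fa5fd64e35529b50631a047)) (TN.leaf (nat_lit 0x2233490af77c02d5437bf41f5b13b953d06a1194597b479532f1183cf25b52f3ef19f79b4c77640cb3a17c94eb0c72bc23f6e719e4815c37741713e16843b62ba18b67833b2010b772412d04e12774b6ce7b86fe03d7f25394c864212864419a70339d66d0ec2f144163a5d76fb5b769716362b7bd3254c240a19745c7471de16f5f438a63d3a82b063354a75b3fa3061380d765a72f0de3111cc27222746c5253db7eb7cd2766ff2600e43a23ed22a47535e65514f4d92c95015217c85aa0325fa7c27171374f40052e2428337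47e3c13c75800176d60615960c276968c4d21ec2327b55bb66265420b4840570ff0497228035a32bb6c71247873cc71661e0300285900d44d36073925102ce7f552d37e22e2806204903084110267fe59f77a5fb4db2c27d46597f10313441b96e556638376d5f03c375c58a2da79c03c0d237210177e4f11a864d3ac28f0ad7a76d204b25856b46f64b42721f2930016ae44c7d03916cb2e90e735b4021583d279911458120c4fa5b82824f51667d76bd3f31ab4141c33ae7ff0fa47367049d54e2a315333f64f6637b051956d72a0e13405b05d52c66272f937426971b3da3eb29f53e4167c52a06b22574c47a45f980103941308f0b914e4102f34602f278b5d65c90b370e5370a12b118908a3f023b06349214800d0fe4b17a642b3fb5775a27057cf39f08b76a55f2dc53c1942c305e18f72528b0cf39515e7676bb0d04de5ec0367131a779670b0f70407f70157fc5854b052709b0ee7ea57b2b96f813375e2b87bb32d6ee3037a880937d2d545643473850e10649424f56136674968f2110935eb05b08250c55a5c830e3aa46d2982ed68a17054c4725870426505d23431467810d31e004516577b35c1a573e6d309f79224d01206b7b92db0a473f3366cd4cd6a409c6f72c44f00464dd7af19c7767de4ef7065a84df11c3a044e32c4ac0250a62787d32fe5e65c269575f01626e1aa4442343e909430b66421a19171150b4cb7cc7683de2094c14c602a1e67604a850778a4be31b7406893e468d24339758f1e963046135d72b18669c7261e72fc))))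
noncomputable def pi (i : ℕ) : ℕ := get9 pi_t (nat_lit 12) (nat_lit 4095) i
def pj_t : TN := (TN.node (TN.node (TN.node (TN.leaf (nat_lit 0x3b01c61584b759d31b1a641514e4dc4f31022e621159e49d55e33056476a54d5b36093af6016173661e32355231c965d4217ab22331c46a08527d1780265ca4203dc3d03832c51d318b4e60367998001e13c10a12f24b14335206fd0e822b1c15273793194552e94c87374ff19b39a56036251e3eb47f49048143e2c41676ff62a2e872669d3bc6581053741ae4375467e97dd0636410cf7c01850db7ae23b2a76ad26238062240a6aa1574393a47d417a6c40544306040b92495020af2d009c13b2ec0f10424ea06a5e33091ff2552125c63275ee7d96687aa53027b3990218091de4584d170365b3427b43982325cf30e6a510d4093e35e043b70d0ef4451a933f6f44bc4140d47876d12aa56207556c1646be53666047b2b938f38803320851d4f93023a71224881d679f77c1013d855168c09436a0560803237ce4940773b729a7c27cc48209975a22c2245553134241f00f463a4c54387f37ee2c85d359f70a48e53c2b30ac4360891ba3ee0f303739c15b3e067d4f73f14895d672957a7616bc31f2631cc6fa4e95db69a58205c0e919624f3810c90706914b07bc50904c0974eb7102264c678e4f22c96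ec2ad36579b50602206e1a54fb4ae79e56b2a075265e72b46b6a26a71c70281257e535d54b1b17e14725693670f976e52104a4ac40f0c20294b60a76d21697d01d446d4226c95574353907fd22172240606f51958f4db17f6342b264e2284de6c651265502a5956486925f91d83d90585253976266752834ca3786d34082924276b26c35d53ed11344007432536867208f31d2c10fd00712f32032213604756f5c235030c56708c4032673474712b11626517f402c2d14121822e319c6c05b77705bc1236ab3155346733634591b27625a91951f41c25ed1895882717cd0192b671f1fe7604be20064465c01649266453969913f0687c772c2402846d521e1b569f2dd2c21777807397552ae10e7fb1124976184747544767436354790e71725594a903e4612273563cb18e0604c777262c6970ee0a265253308b1bd4506bd4ef4bf3693123d542b26677a0343fe4b4717000)) (TN.leaf (nat_lit 0x6845ae05046f3ef00175e03d6d63ba))) (TN.leaf (nat_lit 0xb42592063c973f77f6d70203701872817a953a5d81707323e51f23916a06742d32b740e0696305751f32f628758e2a30813ec5a21f52f119401e5f07b86cb6e92eb2d66621264d932a33a2db19e08d0bc6ca66f49c0a325a5497db62f4af1f71e214b1714a77673fc3f77067b60a63732d44522467f76ea0a93c41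075d016c7815fa63c5e24ba29e4a875d6b604123f7411cd5da50e25c24709650d5e876f0a81274253c312b75360a5a638550550472f1472ce6653e969518a2140467097730431811c345b68f5982960df6b726f07f59035b5c10732e12193436ee21771d03f27c50a2df73546404e29480467a37f6b02ea1994044e167051b4ce5c41c433e01a0fb4495973ae0b86f63dd66742d7a31a02e02a43e12722577fa4692cb3f53c66df7f56ae5bd4da7c53e26c70402955524c30e523c1667eb2f374b5324fa1b32bb1176932b57955e41fd0f27830ba21610606d28524803a6ef15442c14815e1ac33942e24374e1b967e5ff67162009557c3366142025fb11d48a52c7844321845d231630523e7071d715938e07e70477b4e855b72764563e08200f5287e24c014a49f40734c2d930152252f2b81f663b6a16434f673e02e7860d50aa0eb05b3b475176b2fe22d32956864a00d61f1cf5ce7c47e76193826d95867b061a0ea0146120fc4b34e442a1650ec0784b91392181461c86bb6941083f327863655441009a6152864701e72a21e534447733d04921c6f757340d00a36f3cd36c36e24d67c1526bf09f7465f241d0a521a00947c5562ef3fa1751567635442c77dc54e05e77616b02b32621522525e13120e78a3526f966615a36471c26c66c7965141dc17c52e38c3f61601f81401e66076ce15c30b0d77ad4853b87f22521ee6818051fb4530bd2705103286383aa7151e941817634657213c3326291734837ba01d39b5f12371fc01502f0924df2904195cb68029b5612e20b13f438b1ec36d6b95fd10377871a5b45872bd4ed4432d82a67f837255d1ea8081eb0645810716de5706fe6d40657446d01291d21aa3fb32b7af2ba25f0515f75742a54d070e3d30c5)))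 (TN.node (TN.leaf (nat_lit 0xbe51c01f4fc6b87a13c83f049b27e4911be7001ed44e6c27ea3a178c4c96e13b162725b3b31bf3de60e3944517d80da1f961c3bb2797946e23e637522a10441603915d70c31e0f67ed2e737c7580fe5a70e21357741df0865b073135477523638927a5c31210f01c07f62421ef7d629c3f88061090f70531d96fc12c7245d766d1a37a65b65c94d630844a78d7e46396b310a7be26b5c539e46808a60b5176a621d15174f71340b5a853f2513c01db7a829f55c19a4001bc12873406c0bf4ab51a74a68321b1320930d83f22ca58c5eb6e507d72a0044562da03c08e3611fa05f0135911496795b25e15405f44a05413b278960665970f25431a4e345d2b02040e644c1450cd0d213e08447555a2f81437fe1102930ae4bb7386613111446eb6f349e2af32d7d23ad25d3da77764c47e2d52604ec2583bd7ef18f6886374ee09d2bc3773531da7b13d156d4675e64a313d5835130256112011162d74025ef26d3a805907b79a48b44266e0610bb6254bd2fc7451917a041c2c06865240ed5894136315f66005584c16e60321422bf2564d26cf6cd7bb37b47334966a5154a403171126957f00249a2535487790d93963a622e4806af64f72e07c1b412020d68250c1a216f1ce2775e574d47d0b03f92457850300b76e84e76466ac73d4960118032441157e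075c7d568e68a53748c45e37a2a952a6c57a55be13813459b22f09b22056531701c01243d6f55a45a16dc6e056345c3b52035bf03866b4314c23a05017181d152b2ff7235fe3575b96a833b44456a15f45a30013726870516e7481612751b03c548640c3146333b97915a01bb5387985710ab45462b5945c82fb1ab6e43a92ab1934624c434f52622278f07217e4f81b77ec3ac11f71e6da24154f5932ac0b555028267b4996533ab0100d65530de3d414127f37e60c30422914d7df2732f42be6c137d54c14f03b0e34e562844676921006605d7495fc07a25078b38444f7970525854287ff52d1885af71906754534831062304829820c33c0c032457e48767655f0ca5031837087642c661b39521302d35f12d1535a57d10c6)) (TN.leaf (nat_lit 0x6fb74217d69623120711e18c69843474c39f5e97c673a3385e72380171e07936902cc16a54a3453343d21ad5c741f2d250863f3df5a33711a73d65927022de23d73c6325d95187146b40b679261e8023337e378258d2746dd24c4cb77e26441b7f91187b21ca6891986507c926a5dd7687f110c8074f56f06420910f52610c12891f16857216ba5bb6d800c5b853b34a48d4a20a072d7e835170b35918069c7f005a20a65457b27639258a19f1a86cc61356e11b75918641728c33744b65f40146c7281b87fc65a7403a51a129d6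404787da30a4f450f16823a3937334114576b176d61d6a42fa0037e62ee59c28d61662d68b1747307a239d4f157728b19229712e4d70063db38a54357653516d7cb5de6780237ac0e157947a0d134e28a61064d65745f35550735c05567f23318d2300e01af2cd04f52979c24b30d3c76056ed01859a5ea6026a97cf5f575f3cc0870e404b41a1b66e32994412a877d7575ec05769e4aa6213a25786c816332e69b28828f5422fd63d6b55dc7bf48f4652c37907c819038d7b74e01d068d6475475f32a14473354cc0ce3406871e85d44055ad21f4267de4d57365aa0c73ea10b4a63fd4951115c03602b40050355997714fd4296567203e410f43a7ca64b14c7120b25ac4cd75b09e4cf2914d33b63e83c220f4b27010dd6a319744d5315b11dd2f91500c86db46e3bf1a471637642f1555cd00e2091d53870766490243cf3ce5df2dc0b30886033d706b0901197b53e762e20b32f4ad34d50b6774dd60d76c31866960f07936b2e528e7d753e1cb5cc4601302f75ab3be38612a2657d306256630f24e0cb5114a56f824a3067bd3310fa4b84a11242342f03ca6246f17660cc0c358449858b0444b579d73b46311c1007887658015d15f86636f220572546671b5002e43583a334b35e7c13217c344826e04d3077a735a4237b95b553d00b0dc0d00087a44fe5806082ed1330a44f07b301b1144e26e70f843f49332c51f17974757d7561e42f50984d411a5160d348441e3ff17b0830c413a43c4d85962800ad1c55ba34175030302719d0ff2cf239045))))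
noncomputable def pj (i : ℕ) : ℕ := get9 pj_t (nat_lit 12) (nat_lit 4095) i
def Wo_t : TL := (TL.node (TL.node (TL.node (TL.node (TL.leaf [nat_lit 5, nat_lit 4, nat_lit 7, nat_lit 1, nat_lit 2, nat_lit 8, nat_lit 2, nat_lit 1, nat_lit 7, nat_lit 4, nat_lit 1, nat_lit 2, nat_lit 1, nat_lit 2, nat_lit 8, nat_lit 1, nat_lit 2, nat_lit 6, nat_lit 3, nat_lit 2, nat_lit 8, nat_lit 2, nat_lit 6, nat_lit 6, nat_lit 6, nat_lit 6, nat_lit 8]) (TL.leaf [nat_lit 3, nat_lit 0, nat_lit 2, nat_lit 6, nat_lit 7, nat_lit 8, nat_lit 2, nat_lit 1, nat_lit 7, nat_lit 2, nat_lit 1, nat_lit 2, nat_lit 6, nat_lit 6, nat_lit 8, nat_lit 2, nat_lit 7, nat_lit 6, nat_lit 3, nat_lit 0])) (TL.leaf [nat_lit 7, nat_lit 1, nat_lit 2, nat_lit 5, nat_lit 6, nat_lit 6, nat_lit 8, nat_lit 2, nat_lit 1, nat_lit 7, nat_lit 6, nat_lit 2, nat_lit 6, nat_lit 6, nat_lit 4, nat_lit 6, nat_lit 2, nat_lit 1, nat_lit 2, nat_lit 1, nat_lit 0])) (TL.node (TL.leaf [nat_lit 4, nat_lit 6, nat_lit 6, nat_lit 4, nat_lit 7, nat_lit 1, nat_lit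 2, nat_lit 8, nat_lit 2, nat_lit 1, nat_lit 7, nat_lit 4, nat_lit 6, nat_lit 6, nat_lit 4, nat_lit 0, nat_lit 2, nat_lit 4, nat_lit 2, nat_lit 1, nat_lit 6, nat_lit 4, nat_lit 2, nat_lit 1, nat_lit 2]) (TL.leaf [nat_lit 2, nat_lit 4, nat_lit 7, nat_lit 1, nat_lit 2, nat_lit 0, nat_lit 8, nat_lit 2, nat_lit 1, nat_lit 7, nat_lit 3, nat_lit 1, nat_lit 2, nat_lit 5, nat_lit 1, nat_lit 2, nat_lit 4, nat_lit 6, nat_lit 6, nat_lit 1, nat_lit 4, nat_lit 2, nat_lit 3, nat_lit 4]))) (TL.node (TL.node (TL.leaf [nat_lit 4, nat_lit 6, nat_lit 4, nat_lit 7, nat_lit 1, nat_lit 5, nat_lit 2, nat_lit 8, nat_lit 2, nat_lit 1, nat_lit 7, nat_lit 4, nat_lit 6, nat_lit 4, nat_lit 2, nat_lit 6, nat_lit 6, nat_lit 4, nat_lit 2, nat_lit 1, nat_lit 0, nat_lit 3, nat_lit 2, nat_lit 1, nat_lit 2, nat_lit 4, nat_lit 6, nat_lit 6, nat_lit 2, nat_lit 3, nat_lit 2, nat_lit 4, nat_lit 2, nat_lit 1, nat_lit 2, nat_lit 3, nat_lit 4]) (TL.leaf [nat_lit 4, nat_lit 6, nat_lit 6, nat_lit 4, nat_lit 7, nat_lit 1, nat_lit 2,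 nat_lit 8, nat_lit 2, nat_lit 1, nat_lit 7, nat_lit 4, nat_lit 6, nat_lit 6, nat_lit 4, nat_lit 5, nat_lit 2, nat_lit 4, nat_lit 2, nat_lit 1, nat_lit 2, nat_lit 3, nat_lit 4, nat_lit 2, nat_lit 1, nat_lit 2])) (TL.node (TL.leaf [nat_lit 6, nat_lit 6, nat_lit 7, nat_lit 1, nat_lit 2, nat_lit 8, nat_lit 2, nat_lit 1, nat_lit 7, nat_lit 6, nat_lit 6, nat_lit 1, nat_lit 2, nat_lit 1, nat_lit 6, nat_lit 6, nat_lit 4, nat_lit 2, nat_lit 3, nat_lit 4, nat_lit 6, nat_lit 6]) (TL.leaf [nat_lit 3, nat_lit 1, nat_lit 2, nat_lit 1, nat_lit 4, nat_lit 2, nat_lit 1, nat_lit 8, nat_lit 6, nat_lit 4, nat_lit 2, nat_lit 8, nat_lit 1, nat_lit 2, nat_lit 4, nat_lit 3, nat_lit 6, nat_lit 8]))))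
noncomputable def Wo (i : ℕ) : List ℕ := TL.get Wo_t i
noncomputable def g1 : ℕ → ℕ := nzE TG (nat_lit 2058) (nat_lit 9) pi pj Wo
theorem ge0 : Nat.beq (rng g1 (nat_lit 0) (nat_lit 1363)) (nat_lit 0) = true := by decide +kernel
theorem ge1363 : Nat.beq (rng g1 (nat_lit 1363) (nat_lit 695)) (nat_lit 0) = true := by decide +kernel
theorem l1 : ∀ i < 2058, g1 i = 0 := by
  have h := zero_lt_zero g1
  have h := zero_lt_add (a := (nat_lit 0)) (n := (nat_lit 1363)) (b := (nat_lit 1363)) h ge0 rfl
  have h := zero_lt_add (a := (nat_lit 1363)) (n := (nat_lit 695)) (b := (nat_lit 2058)) h ge1363 rfl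
  exact h
noncomputable def g2 : ℕ → ℕ := ufE TG [[nat_lit 2, nat_lit 4, nat_lit 7, nat_lit 1, nat_lit 2, nat_lit 8, nat_lit 2, nat_lit 1, nat_lit 7, nat_lit 3, nat_lit 5, nat_lit 1, nat_lit 6, nat_lit 4, nat_lit 2, nat_lit 1, nat_lit 6], [nat_lit 7, nat_lit 1, nat_lit 2, nat_lit 8, nat_lit 1, nat_lit 2, nat_lit 1, nat_lit 2, nat_lit 1, nat_lit 8, nat_lit 2, nat_lit 6, nat_lit 6, nat_lit 2, nat_lit 8, nat_lit 2, nat_lit 1, nat_lit 7, nat_lit 6, nat_lit 6, nat_lit 1, nat_lit 4, nat_lit 2, nat_lit 1, nat_lit 6, nat_lit 6, nat_lit 4, nat_lit 2, nat_lit 8, nat_lit 1, nat_lit 4, nat_lit 8, nat_lit 0, nat_lit 6]] (nat_lit 0)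
theorem gf0 : Nat.beq (rng g2 (nat_lit 0) (nat_lit 2058)) (nat_lit 0) = true := by decide +kernel
theorem l2 : ∀ i < 2058, g2 i = 0 := by
  have h := zero_lt_zero g2
  have h := zero_lt_add (a := (nat_lit 0)) (n := (nat_lit 2058)) (b := (nat_lit 2058)) h gf0 rfl
  exact h
theorem out : Nat.card (Cfsg.Out (Cfsg.Spor.He)) = 2 := by
  obtain ⟨α, h⟩ := (md0).outer (top2) (by decide +kernel) l1 (x := 0) (by decide) (by decide +kernel) l2
  exact out_two (ctr) aut (by rw [card]; decide) ((md0).outer4 h (w := [nat_lit 7, nat_lit 1, nat_lit 2, nat_lit 1, nat_lit 2, nat_lit 8]) (y := 46) (ch.sub hs (by decide)) (by decide +kernel))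

end Cfsg.Agent.Ct.Heo
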