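import Cfsg.Agent.Lib.Cert.Heo.O0

set_option autoImplicit false
set_option maxRecDepth 100000

namespace Cfsg.Agent.Ct.Heo

open Cfsg.Agent.PC

theorem v1x115000 : Nat.beq (rng u1 (nat_lit 115000) (nat_lit 2500)) (nat_lit 0) = true := by decide +kernel
theorem v1x117500 : Nat.beq (rng u1 (nat_lit 117500) (nat_lit 2500)) (nat_lit 0) = true := by decide +kernel
theorem v1x120000 : Nat.beq (rng u1 (nat_lit 120000) (nat_lit 2500)) (nat_lit 0) = true := by decide +kernel
theorem v1x122500 : Nat.beq (rng u1 (nat_lit 122500) (nat_lit 2500)) (nat_lit 0) = true := by decide +kernel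
theorem v1x125000 : Nat.beq (rng u1 (nat_lit 125000) (nat_lit 2500)) (nat_lit 0) = true := by decide +kernel
theorem v1x127500 : Nat.beq (rng u1 (nat_lit 127500) (nat_lit 2500)) (nat_lit 0) = true := by decide +kernel
theorem v1x130000 : Nat.beq (rng u1 (nat_lit 130000) (nat_lit 2500)) (nat_lit 0) = true := by decide +kernel
theorem v1x132500 : Nat.beq (rng u1 (nat_lit 132500) (nat_lit 2500)) (nat_lit 0) = true := by decide +kernel
theorem v1x135000 : Nat.beq (rng u1 (nat_lit 135000) (nat_lit 2500)) (nat_lit 0) = true := by decide +kernel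
theorem v1x137500 : Nat.beq (rng u1 (nat_lit 137500) (nat_lit 2500)) (nat_lit 0) = true := by decide +kernel

end Cfsg.Agent.Ct.Heo
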